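import Groth.Agent.SkyOrth.Basic
import Groth.Agent.DCohLib.PerfLocFree
import Groth.Agent.DCohLib.TensorMod
import Groth.Agent.DCohMore.ProjPC
import Groth.Agent.DCohMore.RpushPerfFP
import Groth.Agent.DCohMore.PerfHom
import Groth.Agent.DCohMore.GammaOrth
import Groth.Agent.DCohMore.GenBounded
import Groth.Agent.DCohMore.BvdBGen

/-!
# Vanishing of one fibre cohomology group forces vanishing of cohomology at the point
-/

set_option autoImplicit false
set_option linter.style.haveILetI false
set_option maxHeartbeats 1000000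
set_option backward.isDefEq.respectTransparency false

universe u

open CategoryTheory CategoryTheory.Limits AlgebraicGeometry Opposite
open CategoryTheory.Pretriangulated

attribute [local instance] HasDerivedCategory.standard

noncomputable section

namespace Groth.Agent.SkyOrth

open Groth.Agent.DCohLib Groth.Agent.DCohMore

variable {R : CommRingCat.{u}}

/-- A quasi-coherent module on an affine scheme without nonzero maps from the structure sheaf is zero. -/
theorem isZero_of_hom_unit (N : (Spec R).Modules) [Coh.IsQCoh N]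
    (h : ∀ ψ : Coh.structureModule (Spec R) ⟶ N, ψ = 0) : IsZero N := by
  haveI := Scheme.Modules.isIso_fromTildeΓ_of_isQuasicoherent N
  have hs : Subsingleton ((moduleSpecΓFunctor (R := R)).obj N : Type u) :=
    subsingleton_of_forall_eq 0 fun t => by
      have ht : AmpleLib.sec (secHom N t) = t := AmpleLib.sec_secHom t
      rw [h (secHom N t)] at ht
      exact ht.symm
  exact ((tilde.functor R).map_isZero (@ModuleCat.isZero_of_subsingleton _ _ _ hs)).of_iso
    (asIso (Scheme.Modules.fromTildeΓ (R := R) N)).symm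

/-- On an affine scheme the sections of cohomology are maps from the structure sheaf. -/
theorem isZero_HD_of_hom (W : DCoh.D (Spec R)) (hW : DCoh.IsQCohD W) (a : ℤ) [W.IsGE a]
    (h : ∀ φ : DCoh.inD (Spec R) (Coh.structureModule (Spec R)) ⟶ W, φ = 0) : IsZero (DCoh.HD W 0) := by
  haveI : Coh.IsQCoh (DCoh.HD W 0) := hW 0
  haveI : HasExt.{u} (Spec R).Modules := inferInstance
  refine isZero_of_hom_unit _ fun ψ => ?_
  obtain ⟨ξ, rfl⟩ := (RlimCrit.cl_bijective_of_isGE.{u} (Coh.structureModule (Spec R)) 0 W a fun i k hk => by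
    obtain ⟨k, rfl⟩ : ∃ k', k = k' + 1 := ⟨k - 1, by omega⟩
    haveI : Coh.IsQCoh ((DerivedCategory.homologyFunctor (Spec R).Modules i).obj W) := hW i
    exact subsingleton_ext_unit _ _ (CohBase.subsingleton_HH _ (k + 1)
      (CohBase.affine_vanishing _ (isAffineOpen_top (Spec R)) k))).2 ψ
  let e := (DerivedCategory.singleFunctorIsoCompQ (Spec R).Modules 0).app (Coh.structureModule (Spec R))
  have hξ : ξ = 0 := by
    rw [← cancel_epi e.hom, comp_zero]
    exact h _
  simp [RlimCrit.cl, hξ]

variable {X : Scheme.{u}}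

/-- Vanishing of a Betti number of a perfect object kills the cohomology stalk. -/
theorem subsingleton_stalk_of_betti [∀ x : X, DCoh.HasLpull (X.fromSpecResidueField x)] (K : DCoh.D X)
    (hK : DCoh.IsPerfect K) (x : X) (i : ℤ) (h : PerfD.betti K x i = 0) :
    Subsingleton ((DCoh.HD K i).presheaf.stalk x) := by
  rw [isPerfect_iff] at hK
  obtain ⟨V, hy, A, hA, ⟨e⟩⟩ := hK x
  let y : (V : Scheme.{u}) := ⟨x, hy⟩
  haveI := isQCoh_coker_d hA.2 (i - 1) i
  haveI := isQCoh_coker_d hA.2 i (i + 1)
  have hn := betti_add_of_iso K V.ι hA e i y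
  rw [show V.ι y = x from rfl, h, zero_add] at hn
  let f : cokernel (A.d (i - 1) i) ⟶ A.X (i + 1) := cokernel.desc _ (A.d i (i + 1)) (A.d_comp_d _ _ _)
  let q : A.X (i + 1) ⟶ cokernel (A.d i (i + 1)) := cokernel.π _
  have hfq : f ≫ q = 0 := (cancel_epi (cokernel.π (A.d (i - 1) i))).1
    (by rw [cokernel.π_desc_assoc, cokernel.condition, comp_zero])
  have hS : (ShortComplex.mk f q hfq).Exact := ShortComplex.exact_of_g_is_cokernel _
    (CokernelCofork.IsColimit.ofπ _ _
      (fun g hg => cokernel.desc _ g (by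
        rw [← cokernel.π_desc (A.d (i - 1) i) (A.d i (i + 1)) (A.d_comp_d _ _ _), Category.assoc]
        exact (congrArg (_ ≫ ·) hg).trans comp_zero))
      (fun g hg => cokernel.π_desc _ _ _)
      (fun g hg m hm => by
        apply (cancel_epi (cokernel.π (A.d i (i + 1)))).1
        rw [cokernel.π_desc]
        exact hm))
  haveI := (free_finite_stalk_of_flf (hA.2 (i + 1)) y).1
  haveI := (free_finite_stalk_of_flf (hA.2 (i + 1)) y).2
  haveI := FlatLocus.finite_stalk _ (isFP_coker_d hA.2 (i - 1) i) y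
  have hf : Function.Injective ((stkF y).map f).hom :=
    (split_of_finrank_add (O := (V : Scheme.{u}).presheaf.stalk y)
      (C := (cokernel (A.d (i - 1) i)).presheaf.stalk y) (F := (A.X (i + 1)).presheaf.stalk y)
      (D := (cokernel (A.d i (i + 1))).presheaf.stalk y) ((stkF y).map f).hom ((stkF y).map q).hom
      ((ModuleCat.epi_iff_surjective _).1 inferInstance)
      ((ShortComplex.ShortExact.moduleCat_exact_iff_function_exact _).1 (hS.map (stkF y))) hn.symm).1
  haveI : Mono ((stkF y).map f) := (ModuleCat.mono_iff_injective _).2 hf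
  have hA0 : IsZero ((stkF y).obj (A.homology i)) := by
    let S := A.sc' (i - 1) i (i + 1)
    refine IsZero.of_iso ?_ ((stkF y).mapIso ((A.homologyIsoSc' (i - 1) i (i + 1) (by simp) (by simp)) ≪≫
      S.homologyIsoKernelDesc))
    exact (isZero_kernel_of_mono ((stkF y).map f)).of_iso (PreservesKernel.iso (stkF y) f)
  let e' : DCoh.HD ((DCoh.restrictD V.ι).obj K) i ≅ A.homology i :=
    (DerivedCategory.homologyFunctor _ i).mapIso e.symm ≪≫
      (DerivedCategory.homologyFunctorFactors _ i).app A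
  exact (subsingleton_stalk_restrictD V.ι K i y).1
    (ModuleCat.subsingleton_of_isZero (hA0.of_iso ((stkF y).mapIso e')))

/-- A coherent sheaf without the point in its support has no point of a neighbourhood in it. -/
theorem exists_nhd [IsLocallyNoetherian X] (K : DCoh.D X) (hK : DCoh.IsCohD K) (x : X) (i : ℤ)
    (h : x ∉ CohB1.support (DCoh.HD K i)) :
    ∃ U : X.Opens, x ∈ U ∧ ∀ y : X, y ∈ U → y ∉ CohB1.support (DCoh.HD K i) :=
  haveI := (hK i).1
  ⟨⟨_, (PullbackMod.isClosed_support_of_isFT (hK i).2).isOpen_compl⟩, h, fun _ hy => hy⟩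

/-- If no hypercohomology class in degree `i` lives on `K ⊗^L O_x`, the point is outside the support of
the cohomology sheaf in degree `i`. -/
theorem not_mem_support_of_hom_lTensorMod [IsLocallyNoetherian X] (x : X) (hx : IsClosed ({x} : Set X))
    (P : DCoh.D X) (hP : DCoh.IsPerfect P) [DCoh.HasLTensorMod (SkyHomLib.skyO X x)] (i : ℤ)
    (h : ∀ φ : DCoh.inD X (Coh.structureModule X) ⟶ ((DCoh.LTensorMod (SkyHomLib.skyO X x)).obj P)⟦i⟧, φ = 0) :
    x ∉ CohB1.support (DCoh.HD P i) := by
  let Z := Spec (X.residueField x)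
  let f : Z ⟶ X := X.fromSpecResidueField x
  haveI hf : IsClosedImmersion f := isClosed_singleton_iff_isClosedImmersion.1 hx
  haveI : IsLocallyNoetherian Z := LocallyOfFiniteType.isLocallyNoetherian f
  haveI : CompactSpace Z := inferInstanceAs (CompactSpace (PrimeSpectrum (X.residueField x)))
  haveI : IsNoetherian Z := {}
  haveI := BC.hasRpush f
  haveI hl : ∀ y : X, DCoh.HasLpull (X.fromSpecResidueField y) := fun y => hasLpull _
  haveI : DCoh.HasLpull f := hl x
  haveI : SiteCmp.HasRpushD (ModSite.RMor.ofScheme f) := ‹DCoh.HasRpush f›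
  obtain ⟨h₁, h₂⟩ := SiteCmpLib.exists_triangulated_rpushD (ModSite.RMor.ofScheme f)
  letI : (DCoh.Rpush f).CommShift ℤ := h₁
  let O := Coh.structureModule Z
  let V := (DCoh.Lpull f).obj P
  haveI := hasLTensorMod O
  obtain ⟨p⟩ := nonempty_lTensorMod_pushforward f O
    (DCohLib.isCoh_of_isFinLocFree (BCLib.isFinLocFree_structureModule Z)).1 P (DCohMore.isQCohD_of_isPerfect hP)
  obtain ⟨u⟩ := TwistFam.nonempty_lTensorMod_unit (Iso.refl O) V
  let t : ((DCoh.LTensorMod (SkyHomLib.skyO X x)).obj P)⟦i⟧ ≅ (DCoh.Rpush f).obj (V⟦i⟧) :=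
    (shiftFunctor (DCoh.D X) i).mapIso (p ≪≫ (DCoh.Rpush f).mapIso u) ≪≫
      ((DCoh.Rpush f).commShiftIso i).symm.app V
  haveI : IsIso ((BC.lamN f 0).app (Coh.structureModule X)) :=
    BC.isIso_lamN_app_flat f 0 _ ((isFlat_iff _).2 (SiteBase.ExtZeroPre.isFlat_unit X.sheaf))
  let eU : (DCoh.Lpull f).obj (DCoh.inD X (Coh.structureModule X)) ≅ DCoh.inD Z O :=
    asIso ((BC.lamN f 0).app (Coh.structureModule X)) ≪≫ (BC.TT Z 0).mapIso (pullStructureIso f)
  have hV : DCoh.IsPerfect V := isPerfect_lpull f P hP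
  obtain ⟨-, a, b, ha, -⟩ := isCohD_bounded_of_isPerfect _ (isPerfect_shift hV i)
  haveI := ha
  have hz : IsZero (DCoh.HD V i) := by
    refine IsZero.of_iso (isZero_HD_of_hom (R := X.residueField x) (V⟦i⟧)
      (DCohMore.isQCohD_of_isPerfect (isPerfect_shift hV i)) a fun φ => ?_) (eqToIso (by rw [add_zero]) ≪≫
        (hdShift V i 0).symm)
    apply ((eU.symm.homCongr (Iso.refl _)).trans
      (((lpullRpushAdj f).homEquiv _ _).trans ((Iso.refl _).homCongr t.symm))).injective
    exact (h _).trans (h _).symm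
  have hb : PerfD.betti P x i = 0 := by
    haveI : Subsingleton ((DCoh.HD V i).val.obj (op ⊤)) :=
      AddCommGrpCat.subsingleton_of_isZero (((Scheme.Modules.toPresheaf Z).map_isZero hz).obj (op ⊤))
    haveI : Nontrivial (Coh.Γtop Z) :=
      (Scheme.ΓSpecIso (X.residueField x)).commRingCatIsoToRingEquiv.toEquiv.nontrivial
    exact Module.finrank_zero_of_subsingleton
  haveI := subsingleton_stalk_of_betti P hP x i hb
  exact fun hm => hm ‹_›

/-- One degree of vanishing hypercohomology kills maps from the shifted structure sheaf. -/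
theorem hom_eq_zero_of_isZero_rgamma [DCoh.HasRΓ X] (E : DCoh.D X) (n : ℤ)
    (h : IsZero ((DerivedCategory.homologyFunctor AddCommGrpCat.{u} n).obj ((DCoh.RΓ X).obj E)))
    (φ : DCoh.inD X (Coh.structureModule X) ⟶ E⟦n⟧) : φ = 0 := by
  obtain ⟨I, hI, -, ⟨e⟩⟩ := exists_injective_resolution X E
  haveI := hI
  let adj := (shiftEquiv (DCoh.D X) n).symm.toAdjunction
  apply (adj.homEquiv _ _).symm.injective
  generalize hψ : (adj.homEquiv _ _).symm φ = ψ
  suffices h0 : ∀ ψ : (DCoh.inD X (Coh.structureModule X))⟦-n⟧ ⟶ E, ψ = 0 from (h0 _).trans (h0 _).symm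
  clear hψ ψ φ
  intro ψ
  let O := Coh.structureModule X
  let a : (DCoh.inD X O)⟦-n⟧ ≅ DerivedCategory.Q.obj ((HomologicalComplex.single X.Modules (ComplexShape.up ℤ) n).obj O) :=
    ((DerivedCategory.singleFunctors X.Modules).shiftIso (-n) n 0 (by simp)).app O ≪≫
      (DerivedCategory.singleFunctorIsoCompQ X.Modules n).app O
  rw [← cancel_epi a.inv, ← cancel_mono e.hom, comp_zero, zero_comp]
  let qi := (DerivedCategory.quotientCompQhIso X.Modules)
  obtain ⟨g, hg⟩ := (CochainComplex.IsKInjective.Qh_map_bijective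
    ((HomotopyCategory.quotient _ _).obj ((HomologicalComplex.single X.Modules (ComplexShape.up ℤ) n).obj O)) I).2
      (qi.hom.app _ ≫ ((a.inv ≫ ψ) ≫ e.hom) ≫ qi.inv.app I)
  obtain ⟨f, rfl⟩ := (HomotopyCategory.quotient X.Modules (ComplexShape.up ℤ)).map_surjective g
  obtain ⟨H⟩ := TwistFam.nonempty_homotopy_zero I n
    (h.of_iso (((DerivedCategory.homologyFunctorFactors AddCommGrpCat.{u} n).app _).symm ≪≫
      (DerivedCategory.homologyFunctor AddCommGrpCat.{u} n).mapIso
        (rgammaInjIso X I ≪≫ (DCoh.RΓ X).mapIso e.symm))) f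
  rw [HomotopyCategory.eq_of_homotopy _ _ H, Functor.map_zero, Functor.map_zero] at hg
  rw [← cancel_epi (qi.hom.app _), ← cancel_mono (qi.inv.app I), comp_zero, zero_comp, Category.assoc]
  exact hg.symm

end Groth.Agent.SkyOrth
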