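import Groth.Agent.DCohMore.FinHom
import Groth.Agent.DCohMore.RegPerf
import Groth.Agent.DCohMore.PerfVanish
import Groth.Agent.DCohMore.CompactPerf
import Groth.Agent.DCohMore.BvdBStep
import Groth.Agent.DCohLib.DualEval
import Groth.Agent.DCohLib.PerfCoh
import Groth.Agent.FMKLib.NatPF
import Groth.Agent.SiteCmpLib.Devissage
import Groth.Agent.SkyHomLib.Basic
import Groth.Agent.DQCohBrown.Cat
import Groth.Agent.BCLib.SteinFlat

/-!
# Orthogonality to skyscraper sheaves
-/

set_option autoImplicit false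
set_option linter.style.haveILetI false
set_option maxHeartbeats 1000000
set_option backward.isDefEq.respectTransparency false

universe u

open CategoryTheory CategoryTheory.Limits AlgebraicGeometry
open CategoryTheory.Pretriangulated

attribute [local instance] HasDerivedCategory.standard

noncomputable section

namespace Groth.Agent.SkyOrth

open Groth.Agent.DCohLib Groth.Agent.DCohMore

/-- The identity of a finite vector space is a finite sum of maps through the field. -/
theorem exists_id_sum_module {k : CommRingCat.{u}} (hk : IsField k) (V : ModuleCat.{u} k) [Module.Finite k V] :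
    ∃ (n : ℕ) (a : Fin n → (V ⟶ ModuleCat.of k k)) (b : Fin n → (ModuleCat.of k k ⟶ V)), 𝟙 V = ∑ j, a j ≫ b j := by
  letI := hk.toField
  let B := Module.finBasis k V
  refine ⟨_, fun j => ModuleCat.ofHom (B.coord j), fun j => ModuleCat.ofHom (LinearMap.toSpanSingleton k V (B j)),
    ModuleCat.hom_ext (LinearMap.ext fun v => ?_)⟩
  simp only [ModuleCat.hom_sum, LinearMap.sum_apply, ModuleCat.hom_comp, LinearMap.comp_apply, ModuleCat.hom_id,
    LinearMap.id_apply]
  exact (B.sum_repr v).symm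

/-- A finitely generated module over a field point has identity a finite sum of maps through the structure sheaf. -/
theorem exists_id_sum {k : CommRingCat.{u}} (hk : IsField k) (N : (Spec k).Modules) (hN : Coh.IsCoh N) :
    ∃ (n : ℕ) (a : Fin n → (N ⟶ Coh.structureModule (Spec k))) (b : Fin n → (Coh.structureModule (Spec k) ⟶ N)),
      𝟙 N = ∑ j, a j ≫ b j := by
  letI := hk.toField
  haveI : Coh.IsQCoh N := hN.1
  haveI := Scheme.Modules.isIso_fromTildeΓ_of_isQuasicoherent N
  let V := (moduleSpecΓFunctor (R := k)).obj N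
  let e : (tilde.functor k).obj V ≅ N := asIso (Scheme.Modules.fromTildeΓ (R := k) N)
  haveI : Module.Finite Γ(Spec k, ⊤) Γ(N, ⊤) := QCohLib.finite_sections N hN.2 (isAffineOpen_top _)
  haveI : Module.Finite k V := by
    letI : Algebra k Γ(Spec k, ⊤) := (Scheme.ΓSpecIso k).inv.hom.toAlgebra
    haveI : Module.Finite k Γ(Spec k, ⊤) := Module.Finite.of_surjective (Algebra.linearMap k Γ(Spec k, ⊤))
      fun s => ⟨(Scheme.ΓSpecIso k).hom s, by
        show (Scheme.ΓSpecIso k).inv ((Scheme.ΓSpecIso k).hom s) = s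
        rw [← ConcreteCategory.comp_apply, Iso.hom_inv_id]
        rfl⟩
    letI : Module k Γ(N, ⊤) := Module.compHom Γ(N, ⊤) (Scheme.ΓSpecIso k).inv.hom
    haveI : IsScalarTower k Γ(Spec k, ⊤) Γ(N, ⊤) := .of_algebraMap_smul fun _ _ => rfl
    exact Module.Finite.trans Γ(Spec k, ⊤) Γ(N, ⊤)
  obtain ⟨n, α, β, h⟩ := exists_id_sum_module hk V
  let s := tildeSelf (R := k)
  refine ⟨n, fun j => e.inv ≫ (tilde.functor k).map (α j) ≫ s.hom,
    fun j => s.inv ≫ (tilde.functor k).map (β j) ≫ e.hom, ?_⟩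
  have h2 := congrArg (fun t => e.inv ≫ (tilde.functor k).map t ≫ e.hom) h
  simp only [CategoryTheory.Functor.map_id, Category.id_comp, Iso.inv_hom_id, Functor.map_sum, Functor.map_comp,
    Preadditive.comp_sum, Preadditive.sum_comp, Category.assoc] at h2
  rw [h2]
  refine Finset.sum_congr rfl fun j _ => ?_
  rw [Category.assoc, Category.assoc]
  erw [s.hom_inv_id_assoc]

variable {X : Scheme.{u}} [IsNoetherian X]

/-- An object receiving no maps from shifts of a skyscraper maps to none of them either. -/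
theorem hom_to_sky_eq_zero (hreg : ∀ y : X, IsRegularLocalRing (X.presheaf.stalk y)) (x : X)
    (hx : IsClosed ({x} : Set X)) (K : DCoh.D X) (hK : DCoh.IsPerfect K)
    (h : ∀ (i : ℤ) (φ : DCoh.inD X (SkyHomLib.skyO X x) ⟶ K⟦i⟧), φ = 0)
    (i : ℤ) (φ : K ⟶ (DCoh.inD X (SkyHomLib.skyO X x))⟦i⟧) : φ = 0 := by
  let Z := Spec (X.residueField x)
  let f : Z ⟶ X := X.fromSpecResidueField x
  haveI hf : IsClosedImmersion f := isClosed_singleton_iff_isClosedImmersion.1 hx
  haveI : IsLocallyNoetherian Z := LocallyOfFiniteType.isLocallyNoetherian f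
  haveI : CompactSpace Z := QuasiCompact.compactSpace_of_compactSpace f
  haveI : IsNoetherian Z := {}
  haveI := BC.hasRpush f
  haveI := hasLpull f
  haveI : SiteCmp.HasRpushD (ModSite.RMor.ofScheme f) := ‹DCoh.HasRpush f›
  obtain ⟨h₁, h₂⟩ := SiteCmpLib.exists_triangulated_rpushD (ModSite.RMor.ofScheme f)
  letI : (DCoh.Rpush f).CommShift ℤ := h₁
  haveI : (DCoh.Rpush f).IsTriangulated := h₂
  let O := Coh.structureModule Z
  obtain ⟨r⟩ := FMKLib.nonempty_rpush_closed f
  let eO : (DCoh.Rpush f).obj (DCoh.inD Z O) ≅ DCoh.inD X (SkyHomLib.skyO X x) :=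
    r.app _ ≪≫ ((Scheme.Modules.pushforward f).mapDerivedCategorySingleFunctor 0).app O
  haveI : IsLocallyNoetherian X := inferInstance
  have hOc : Coh.IsCoh (SkyHomLib.skyO X x) := DevLib.isCoh_pushforward_closed f
    (DCohLib.isCoh_of_isFinLocFree (BCLib.isFinLocFree_structureModule Z))
  have hOp : DCoh.IsPerfect (DCoh.inD X (SkyHomLib.skyO X x)) := by
    haveI : (DCoh.inD X (SkyHomLib.skyO X x)).IsGE 0 := inferInstanceAs (((DerivedCategory.singleFunctor X.Modules 0).obj _).IsGE 0)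
    haveI : (DCoh.inD X (SkyHomLib.skyO X x)).IsLE 0 := inferInstanceAs (((DerivedCategory.singleFunctor X.Modules 0).obj _).IsLE 0)
    refine isPerfect_of_regular hreg _ 0 0 fun q => ?_
    rcases eq_or_ne q 0 with rfl | hq
    · exact isCoh_iso ((DerivedCategory.singleFunctorCompHomologyFunctorIso X.Modules 0).app _).symm hOc
    · refine isCoh_of_isFinLocFree (isFinLocFree_of_isZero ?_)
      rcases lt_or_gt_of_ne hq with hq | hq
      · exact DerivedCategory.isZero_of_isGE _ 0 q hq
      · exact DerivedCategory.isZero_of_isLE _ 0 q hq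
  -- vanishing from direct images of coherent objects on the point
  let P : ObjectProperty (DCoh.D Z) := fun W => ∀ (n : ℤ) (g : ((DCoh.Rpush f).obj W)⟦n⟧ ⟶ K), g = 0
  haveI : P.IsClosedUnderIsomorphisms := ⟨fun e hW n g => by
    rw [← cancel_epi ((shiftFunctor (DCoh.D X) n).map ((DCoh.Rpush f).map e.hom)), comp_zero]
    exact hW n _⟩
  have hshift : ∀ (W : DCoh.D Z) (m : ℤ), P W → P (W⟦m⟧) := fun W m hW n g => by
    rw [← cancel_epi ((shiftFunctor (DCoh.D X) n).map (((DCoh.Rpush f).commShiftIso m).inv.app W)), comp_zero,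
      ← cancel_epi ((shiftFunctorAdd' (DCoh.D X) m n (m + n) rfl).hom.app ((DCoh.Rpush f).obj W)), comp_zero]
    exact hW (m + n) _
  have htri : ∀ T ∈ distTriang (DCoh.D Z), P T.obj₁ → P T.obj₃ → P T.obj₂ := fun T hT h1 h3 n g => by
    let T' := (shiftFunctor (Triangle (DCoh.D X)) n).obj ((DCoh.Rpush f).mapTriangle.obj T)
    have hT' : T' ∈ distTriang _ := Triangle.shift_distinguished _ ((DCoh.Rpush f).map_distinguished _ hT) n
    obtain ⟨g', hg'⟩ := Triangle.yoneda_exact₂ T' hT' g (h1 n _)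
    rw [hg', h3 n g']
    exact comp_zero
  have hO : P (DCoh.inD Z O) := fun n g => by
    let adj := (shiftEquiv (DCoh.D X) n).toAdjunction
    apply (adj.homEquiv _ _).injective
    rw [← cancel_epi eO.inv]
    exact (h (-n) _).trans (h (-n) _).symm
  have hW : ∀ W : DCoh.D Z, DCoh.IsPerfect W → P W := fun W hW => by
    obtain ⟨hc, a, b, ha, hb⟩ := isCohD_bounded_of_isPerfect W hW
    refine SiteCmpLib.prop_of_bounded P hshift htri (b - a).toNat a W ha
      ((DerivedCategory.isLE_iff _ _).2 fun q hq => (DerivedCategory.isLE_iff W b).1 hb q (by omega)) fun q n g => ?_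
    obtain ⟨m, α, β, hid⟩ := exists_id_sum (Field.toIsField (X.residueField x : Type u)) _ (hc q)
    let F := DerivedCategory.singleFunctor Z.Modules 0 ⋙ DCoh.Rpush f ⋙ shiftFunctor (DCoh.D X) n
    let g' : F.obj (DCoh.HD W q) ⟶ K := g
    show g' = 0
    have h1 : g' = F.map (∑ j, α j ≫ β j) ≫ g' := by rw [← hid, F.map_id, Category.id_comp]
    rw [h1, Functor.map_sum, Preadditive.sum_comp]
    refine Finset.sum_eq_zero fun j _ => ?_
    rw [F.map_comp, Category.assoc, show F.map (β j) ≫ g' = 0 from hO n _, comp_zero]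
  -- derived internal Hom out of the skyscraper vanishes
  let Ox := DCoh.inD X (SkyHomLib.skyO X x)
  let Nx := (resX X).obj (DerivedCategory.Q.objPreimage Ox)
  have hNx : DCoh.IsKFlat Nx := isKFlat_resX _
  have hNxp : DCoh.IsPerfect (DerivedCategory.Q.obj Nx) := isPerfect_iso (resXIso Ox).symm hOp
  haveI := hasLTensorCx Nx
  haveI := hasRSheafHom_of_isKFlat Nx hNx
  haveI := hasLTensorCx (unitCx Z)
  let eu : DerivedCategory.Q.obj (unitCx Z) ≅ DCoh.inD Z O := unitDIso.symm
  have huq : DCoh.IsQCohD (DerivedCategory.Q.obj (unitCx Z)) := DCohMore.isQCohD_of_isPerfect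
    (isPerfect_iso eu.symm (isPerfect_inD (BCLib.isFinLocFree_structureModule Z)))
  obtain ⟨pf⟩ := FMKLib.nonempty_proj_right f (unitCx Z) huq Nx
    (resXIso Ox ≪≫ eO.symm ≪≫ (DCoh.Rpush f).mapIso eu.symm)
  let tNx : ∀ E : DCoh.D X, DCoh.IsQCohD E →
      ((DCoh.LTensorCx Nx).obj E ≅ (DCoh.Rpush f).obj ((DCoh.Lpull f).obj E)) := fun E hE =>
    pf.app ⟨E, hE⟩ ≪≫ (DCoh.Rpush f).mapIso (lTensorUnitIso.app _)
  obtain ⟨hKc, a, b, ha, hb⟩ := isCohD_bounded_of_isPerfect K hK
  obtain ⟨hNc, a', b', ha', hb'⟩ := isCohD_bounded_of_isPerfect _ hNxp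
  haveI := hb'
  let R := (DCoh.RSheafHom Nx).obj K
  haveI := ha
  obtain ⟨hRc, -⟩ := isCohD_rSheafHom Nx b' hNc K a hKc
  haveI : CompactSpace X := inferInstance
  haveI : QuasiSeparatedSpace X := inferInstance
  obtain ⟨G, hG, -, hgen⟩ := gen_main (X := X) Set.univ isClosed_univ
    (by rw [Set.compl_univ]; exact isCompact_empty)
  have hR : IsZero R := hgen R (fun q => (hRc q).1) (fun _ => Set.subset_univ _) fun n g => by
    let adjS := (shiftEquiv (DCoh.D X) n).symm.toAdjunction
    apply (adjS.homEquiv G R).symm.injective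
    let adj := DCoh.RSheafHomAdj Nx
    apply (adj.homEquiv _ _).symm.injective
    have hG' : DCoh.IsPerfect (G⟦-n⟧) := isPerfect_shift hG (-n)
    let t := tNx _ (DCohMore.isQCohD_of_isPerfect hG') ≪≫ ((shiftFunctorZero (DCoh.D X) ℤ).app _).symm
    rw [← cancel_epi t.inv]
    exact (hW _ (isPerfect_lpull f _ hG') 0 _).trans (hW _ (isPerfect_lpull f _ hG') 0 _).symm
  -- the skyscraper is a retract of a derived internal Hom out of the dual
  haveI := hasLTensorCx (unitCx X)
  haveI := hasRSheafHom_of_isKFlat (unitCx X) (isKFlat_unitCx (X := X))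
  let D := (resX X).obj (DerivedCategory.Q.objPreimage ((DCoh.RSheafHom Nx).obj (DerivedCategory.Q.obj (unitCx X))))
  haveI := hasLTensorCx D
  haveI := hasRSheafHom_of_isKFlat D (isKFlat_resX _)
  obtain ⟨eK⟩ := nonempty_lTensor_dual Nx hNx hNxp D (isKFlat_resX _)
    (resXIso _ ≪≫ (DCoh.RSheafHom Nx).mapIso unitDIso.symm) K
  have hDK : IsZero ((DCoh.LTensorCx D).obj K) := hR.of_iso eK
  let M := Ox⟦i⟧
  let T := (DCoh.inD Z O)⟦i⟧
  let eT : (DCoh.Rpush f).obj T ≅ M := ((DCoh.Rpush f).commShiftIso i).app _ ≪≫ (shiftFunctor (DCoh.D X) i).mapIso eO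
  have hMq : DCoh.IsQCohD M := DCohMore.isQCohD_of_isPerfect (isPerfect_shift hOp i)
  obtain ⟨ev⟩ := nonempty_rSheafHom_evaluation Nx (unitCx X) hNx hNxp D (resXIso _) M
  let u : (DCoh.RSheafHom (unitCx X)).obj M ≅ M :=
    (Adjunction.rightAdjointUniq ((DCoh.RSheafHomAdj (unitCx X)).ofNatIsoLeft lTensorUnitIso) Adjunction.id).app _
  let w : (DCoh.Rpush f).obj ((DCoh.Lpull f).obj M) ≅ (DCoh.RSheafHom D).obj M :=
    (tNx M hMq).symm ≪≫ (DCoh.LTensorCx Nx).mapIso u.symm ≪≫ ev
  let adj := lpullRpushAdj f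
  let ret : (DCoh.Rpush f).obj ((DCoh.Lpull f).obj M) ⟶ M :=
    (DCoh.Rpush f).map ((DCoh.Lpull f).map eT.inv ≫ adj.counit.app T) ≫ eT.hom
  have hret : adj.unit.app M ≫ ret = 𝟙 M := by
    have hn : adj.unit.app M ≫ (DCoh.Rpush f).map ((DCoh.Lpull f).map eT.inv) =
        eT.inv ≫ adj.unit.app ((DCoh.Rpush f).obj T) := (adj.unit.naturality eT.inv).symm
    simp only [ret, Functor.map_comp, Category.assoc]
    rw [reassoc_of% hn]
    erw [adj.right_triangle_components_assoc T]
    exact eT.inv_hom_id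
  have hz : φ ≫ adj.unit.app M ≫ w.hom = 0 := by
    apply ((DCoh.RSheafHomAdj D).homEquiv _ _).symm.injective
    exact hDK.eq_of_src _ _
  have hz' : φ ≫ adj.unit.app M = 0 := by
    rw [← cancel_mono w.hom, Category.assoc, hz, zero_comp]
  rw [← Category.comp_id φ, ← hret, reassoc_of% hz', zero_comp]

end Groth.Agent.SkyOrth
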